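import Mathlib

/-! Valuation rings are unions of valuation rings with finite spectrum. -/

set_option autoImplicit false
set_option linter.style.haveILetI false
universe u v

namespace ValUnionLib

variable {V : Type u} [CommRing V] [IsDomain V] [ValuationRing V]

theorem exists_generator : ∃ q : ℤ, ∀ n : ℤ, (n : V) ≠ 0 → ∃ (k : ℕ) (u : Vˣ), (n : V) = (q : V) ^ k * u := by
  let P : Ideal ℤ := (IsLocalRing.maximalIdeal V).comap (Int.castRingHom V)
  obtain ⟨q, hq⟩ := Submodule.IsPrincipal.principal P
  refine ⟨q, fun n hn => ?_⟩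
  have hunit : ∀ m : ℤ, ¬ q ∣ m → IsUnit (m : V) := fun m hm => by
    by_contra h
    apply hm
    rw [← Ideal.mem_span_singleton, ← Ideal.submodule_span_eq, ← hq]
    exact h
  have hn0 : n ≠ 0 := fun h => hn (by simp [h])
  by_cases hdvd : q ∣ n
  · have hfin : FiniteMultiplicity q n := by
      refine Int.finiteMultiplicity_iff.mpr ⟨?_, hn0⟩
      intro h1
      have h2 : q ∈ P := by rw [hq]; exact Submodule.mem_span_singleton_self q
      have h3 : IsUnit (q : V) := (Int.isUnit_iff_natAbs_eq.mpr h1).map (Int.castRingHom V)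
      exact h2 h3
    obtain ⟨m, hm, hqm⟩ := hfin.exists_eq_pow_mul_and_not_dvd
    exact ⟨multiplicity q n, (hunit m hqm).unit, by rw [IsUnit.unit_spec, ← Int.cast_pow, ← Int.cast_mul, ← hm]⟩
  · exact ⟨0, (hunit n hdvd).unit, by rw [pow_zero, one_mul, IsUnit.unit_spec]⟩

theorem not_associated {p : Ideal V} [p.IsPrime] {x y : V} (hx : x ∈ p) (hy : y ∉ p) : ¬ Associated x y :=
  fun ⟨w, hw⟩ => hy (hw ▸ p.mul_mem_right _ hx)

theorem eq_zero_of_pairwise {ι : Type*} (S : Finset ι) (f : ι → V) (hne : ∀ i ∈ S, f i ≠ 0)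
    (hna : ∀ i ∈ S, ∀ j ∈ S, i ≠ j → ¬ Associated (f i) (f j)) (hsum : ∑ i ∈ S, f i = 0) : S = ∅ := by
  classical
  by_contra hS
  obtain ⟨i₀, hi₀, hdiv⟩ : ∃ i₀ ∈ S, ∀ j ∈ S, f i₀ ∣ f j := by
    clear hsum hne hna
    induction S using Finset.induction_on with
    | empty => exact absurd rfl hS
    | @insert a T ha ih =>
      by_cases hT : T = ∅
      · subst hT; exact ⟨a, by simp, by simp⟩
      · obtain ⟨i, hi, hiT⟩ := ih hT
        rcases ValuationRing.dvd_total (f a) (f i) with h | h
        · refine ⟨a, Finset.mem_insert_self _ _, fun j hj => ?_⟩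
          rcases Finset.mem_insert.mp hj with rfl | hj
          · exact dvd_rfl
          · exact h.trans (hiT j hj)
        · refine ⟨i, Finset.mem_insert_of_mem hi, fun j hj => ?_⟩
          rcases Finset.mem_insert.mp hj with rfl | hj
          · exact h
          · exact hiT j hj
  choose c hc using hdiv
  have hcm : ∀ j (hj : j ∈ S), j ≠ i₀ → c j hj ∈ IsLocalRing.maximalIdeal V := fun j hj hne' hu =>
    hna i₀ hi₀ j hj hne'.symm ⟨hu.unit, (hc j hj).symm⟩
  have hsum' : f i₀ * (1 + ∑ j ∈ (S.erase i₀).attach, c j.1 (Finset.mem_of_mem_erase j.2)) = 0 := by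
    rw [mul_add, mul_one, Finset.mul_sum]
    simp only [← hc]
    rw [Finset.sum_attach (S.erase i₀) f, Finset.add_sum_erase S f hi₀, hsum]
  refine (mul_ne_zero (hne i₀ hi₀) (IsUnit.ne_zero ?_)) hsum'
  by_contra hu
  have h1 : (∑ j ∈ (S.erase i₀).attach, c j.1 (Finset.mem_of_mem_erase j.2)) ∈ IsLocalRing.maximalIdeal V :=
    sum_mem fun j _ => hcm _ _ (Finset.ne_of_mem_erase j.2)
  have h2 : (1 : V) ∈ IsLocalRing.maximalIdeal V := by
    simpa using (IsLocalRing.maximalIdeal V).sub_mem hu h1
  exact (IsLocalRing.maximalIdeal.isMaximal V).ne_top ((Ideal.eq_top_iff_one _).mpr h2)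

variable {K : Type v} [Field K] (φ : V →+* K) (hφ : Function.Injective φ)

include hφ in
theorem length_le_trdeg {n : ℕ} (P : Fin (n + 2) → PrimeSpectrum V) (hP : StrictMono P) :
    (n : Cardinal) ≤ Algebra.trdeg (⊥ : Subfield K) K := by
  classical
  obtain ⟨q, hq⟩ := exists_generator (V := V)
  let good : Finset (Fin (n + 1)) := Finset.univ.filter fun i => ((q : V) ∈ (P i.succ).asIdeal → (q : V) ∈ (P i.castSucc).asIdeal)
  have hcard : n ≤ good.card := by
    have hbad : goodᶜ.card ≤ 1 := by
      rw [Finset.card_le_one]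
      intro i hi j hj
      simp only [good, Finset.mem_compl, Finset.mem_filter, Finset.mem_univ, true_and, Classical.not_imp] at hi hj
      rcases lt_trichotomy i j with h | h | h
      · exact absurd (hP.monotone (Fin.succ_le_castSucc_iff.mpr h) hi.1) hj.2
      · exact h
      · exact absurd (hP.monotone (Fin.succ_le_castSucc_iff.mpr h) hj.1) hi.2
    have := Finset.card_compl_add_card good
    simp only [Fintype.card_fin] at this
    omega
  have hex : ∀ i : Fin (n + 1), ∃ a, a ∈ (P i.succ).asIdeal ∧ a ∉ (P i.castSucc).asIdeal :=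
    fun i => SetLike.exists_of_lt (hP (Fin.castSucc_lt_succ))
  choose a ha ha' using hex
  have ha0 : ∀ i, a i ≠ 0 := fun i h => ha' i (h ▸ zero_mem _)
  let x : good → K := fun i => φ (a i.1)
  have hind : AlgebraicIndependent (⊥ : Subfield K) x := by
    rw [algebraicIndependent_iff]
    intro G hG
    -- clear denominators
    have hfrac : ∀ c : (⊥ : Subfield K), ∃ s t : ℤ, (t : K) ≠ 0 ∧ (t : K) * c = s := by
      intro c
      have hc : (c : K) ∈ Subfield.closure (∅ : Set K) := by rw [Subfield.closure_empty]; exact c.2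
      rw [Subfield.mem_closure_iff] at hc
      obtain ⟨y, hy, z, hz, hyz⟩ := hc
      rw [Subring.closure_empty, Subring.mem_bot] at hy hz
      obtain ⟨s, rfl⟩ := hy
      obtain ⟨t, rfl⟩ := hz
      by_cases ht : (t : K) = 0
      · exact ⟨0, 1, by simp, by simp [← hyz, ht]⟩
      · exact ⟨s, t, ht, by rw [← hyz]; field_simp⟩
    choose s t ht hst using hfrac
    let D : ℤ := ∏ e ∈ G.support, t (G.coeff e)
    let N : (good →₀ ℕ) → ℤ := fun e => (∏ e' ∈ G.support.erase e, t (G.coeff e')) * s (G.coeff e)
    have hN : ∀ e ∈ G.support, (N e : K) = (D : K) * ((G.coeff e : (⊥ : Subfield K)) : K) := fun e he => by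
      simp only [N, D, ← Finset.mul_prod_erase G.support (fun e => t (G.coeff e)) he, Int.cast_mul]
      rw [← hst]
      ring
    have hDne : (D : K) ≠ 0 := by
      simp only [D, Int.cast_prod]
      exact Finset.prod_ne_zero_iff.mpr fun e _ => ht _
    let m : (good →₀ ℕ) → V := fun e => ∏ i, a i.1 ^ e i
    let f : (good →₀ ℕ) → V := fun e => (N e : V) * m e
    have hNne : ∀ e ∈ G.support, (N e : V) ≠ 0 := fun e he h => by
      have h2 := congrArg φ h
      rw [map_intCast, map_zero, hN e he] at h2
      exact mul_ne_zero hDne (fun h3 => MvPolynomial.mem_support_iff.mp he (Subtype.ext h3)) h2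
    have hsum : ∑ e ∈ G.support, f e = 0 := by
      apply hφ
      rw [map_sum, map_zero]
      have h1 : ∑ e ∈ G.support, φ (f e) = (D : K) * MvPolynomial.aeval x G := by
        rw [MvPolynomial.aeval_def, MvPolynomial.eval₂_eq', Finset.mul_sum]
        refine Finset.sum_congr rfl fun e he => ?_
        simp only [f, m, x, map_mul, map_intCast, hN e he, map_prod, map_pow, mul_assoc]
        rfl
      rw [h1, hG, mul_zero]
    have hemp := eq_zero_of_pairwise G.support f (fun e he => mul_ne_zero (hNne e he)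
      (Finset.prod_ne_zero_iff.mpr fun i _ => pow_ne_zero _ (ha0 _))) ?_ hsum
    · exact MvPolynomial.support_eq_empty.mp hemp
    intro e he e' he' hne
    obtain ⟨i, hi, hmin⟩ : ∃ i, e i ≠ e' i ∧ ∀ l < i, e l = e' l := by
      have hnon : (Finset.univ.filter fun i => e i ≠ e' i).Nonempty := by
        obtain ⟨i, hi⟩ := Finsupp.ne_iff.mp hne
        exact ⟨i, by simpa using hi⟩
      refine ⟨_, (Finset.mem_filter.mp (Finset.min'_mem _ hnon)).2, fun l hl => ?_⟩
      by_contra h
      exact absurd (Finset.min'_le _ l (by simpa using h)) (not_le.mpr hl)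
    -- reduce to e' i < e i
    suffices h : ∀ e e', e ∈ G.support → e' ∈ G.support → e' i < e i → (∀ l < i, e l = e' l) →
        ¬ Associated (f e) (f e') by
      rcases lt_or_gt_of_ne hi with h1 | h1
      · exact fun h2 => h e' e he' he h1 (fun l hl => (hmin l hl).symm) h2.symm
      · exact h e e' he he' h1 hmin
    clear hne hmin hi he he' e e'
    intro e e' he he' hlt hmin
    obtain ⟨k, w, hk⟩ := hq _ (hNne e he)
    obtain ⟨k', w', hk'⟩ := hq _ (hNne e' he')
    let r : (good →₀ ℕ) → V := fun e => ∏ l ∈ Finset.univ.filter (fun l => i < l), a l.1 ^ e l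
    let c : V := (∏ l ∈ Finset.univ.filter (fun l => l < i), a l.1 ^ e l) * a i.1 ^ e' i
    have hsplit : ∀ g : good →₀ ℕ, m g = (∏ l ∈ Finset.univ.filter (fun l => l < i), a l.1 ^ g l) * a i.1 ^ g i * r g := by
      intro g
      have h1 := Finset.prod_filter_mul_prod_filter_not Finset.univ (fun l => l < i) (fun l => a l.1 ^ g l)
      have h2 : Finset.univ.filter (fun l => ¬ l < i) = insert i (Finset.univ.filter (fun l => i < l)) := by
        ext l
        simp only [Finset.mem_filter, Finset.mem_univ, true_and, Finset.mem_insert, not_lt]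
        exact ⟨fun h => h.eq_or_lt.imp Eq.symm id, fun h => h.elim (fun h => h ▸ le_rfl) le_of_lt⟩
      rw [h2, Finset.prod_insert (by simp), ← mul_assoc] at h1
      exact h1.symm
    have hme : m e = c * (a i.1 ^ (e i - e' i) * r e) := by
      rw [hsplit e]
      simp only [c]
      rw [mul_assoc (∏ l ∈ Finset.univ.filter (fun l => l < i), a l.1 ^ e l), mul_assoc (∏ l ∈ Finset.univ.filter (fun l => l < i), a l.1 ^ e l), ← mul_assoc (a i.1 ^ e' i), ← pow_add,
        Nat.add_sub_cancel' hlt.le]
    have hme' : m e' = c * r e' := by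
      rw [hsplit e']
      simp only [c]
      congr 2
      exact Finset.prod_congr rfl fun l hl => by rw [hmin l (Finset.mem_filter.mp hl).2]
    have hr : ∀ g, r g ∉ (P i.1.succ).asIdeal := fun g hg => by
      obtain ⟨l, hl, hl2⟩ := (P i.1.succ).isPrime.prod_mem_iff.mp hg
      exact ha' l.1 (hP.monotone (Fin.succ_le_castSucc_iff.mpr (Finset.mem_filter.mp hl).2)
        ((P i.1.succ).isPrime.mem_of_pow_mem _ hl2))
    have hcast : ∀ z, z ∈ (P i.1.castSucc).asIdeal → z ∈ (P i.1.succ).asIdeal :=
      fun z hz => hP.monotone (Fin.castSucc_lt_succ).le hz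
    haveI := (P i.1.succ).isPrime
    haveI := (P i.1.castSucc).isPrime
    have hc0 : c ≠ 0 := mul_ne_zero (Finset.prod_ne_zero_iff.mpr fun l _ => pow_ne_zero _ (ha0 _)) (pow_ne_zero _ (ha0 _))
    intro hass
    have h1 : Associated ((q : V) ^ k * (a i.1 ^ (e i - e' i) * r e)) ((q : V) ^ k' * r e') := by
      refine Associated.of_mul_right (b := c) (d := c) ?_ (Associated.refl c) hc0
      have e1 : f e = (q : V) ^ k * (a i.1 ^ (e i - e' i) * r e) * c * w := by simp only [f, hk, hme]; ring
      have e2 : f e' = (q : V) ^ k' * r e' * c * w' := by simp only [f, hk', hme']; ring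
      rw [e1, e2] at hass
      exact (associated_mul_unit_right _ _ w.isUnit).trans (hass.trans (associated_mul_unit_left _ _ w'.isUnit))
    by_cases hqi : (q : V) ∈ (P i.1.succ).asIdeal
    · have hgood := (Finset.mem_filter.mp i.2).2 hqi
      have hq0 : ∀ j, (q : V) ^ k ≠ 0 ∧ j ≤ k → (q : V) ^ j ≠ 0 := fun j hj h => hj.1 (by
        rw [← Nat.add_sub_cancel' hj.2, pow_add, h, zero_mul])
      have hqk : (q : V) ^ k ≠ 0 := fun h => hNne e he (by rw [hk, h, zero_mul])
      have hqk' : (q : V) ^ k' ≠ 0 := fun h => hNne e' he' (by rw [hk', h, zero_mul])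
      rcases lt_trichotomy k k' with hlt' | heq | hlt'
      · obtain ⟨j, rfl⟩ := Nat.exists_eq_add_of_lt hlt'
        rw [show (q : V) ^ (k + j + 1) * r e' = (q : V) ^ k * ((q : V) * ((q : V) ^ j * r e')) by ring] at h1
        refine not_associated (p := (P i.1.castSucc).asIdeal) (Ideal.mul_mem_right _ _ hgood) ?_
          (Associated.of_mul_left h1 (Associated.refl _) hqk).symm
        intro h
        rcases (P i.1.castSucc).isPrime.mem_or_mem h with h | h
        · exact ha' i.1 ((P i.1.castSucc).isPrime.mem_of_pow_mem _ h)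
        · exact hr _ (hcast _ h)
      · subst heq
        exact not_associated (p := (P i.1.succ).asIdeal) (Ideal.mul_mem_right _ _
          (Ideal.pow_mem_of_mem _ (ha i.1) _ (Nat.sub_pos_of_lt hlt))) (hr e')
          (Associated.of_mul_left h1 (Associated.refl _) hqk)
      · obtain ⟨j, rfl⟩ := Nat.exists_eq_add_of_lt hlt'
        rw [show (q : V) ^ (k' + j + 1) * (a i.1 ^ (e i - e' i) * r e) =
          (q : V) ^ k' * ((q : V) * ((q : V) ^ j * (a i.1 ^ (e i - e' i) * r e))) by ring] at h1
        exact not_associated (p := (P i.1.succ).asIdeal) (Ideal.mul_mem_right _ _ (hcast _ hgood)) (hr e')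
          (Associated.of_mul_left h1 (Associated.refl _) hqk')
    · refine not_associated (p := (P i.1.succ).asIdeal) (Ideal.mul_mem_left _ _ (Ideal.mul_mem_right _ _
        (Ideal.pow_mem_of_mem _ (ha i.1) _ (Nat.sub_pos_of_lt hlt)))) ?_ h1
      intro h
      rcases (P i.1.succ).isPrime.mem_or_mem h with h | h
      · exact hqi ((P i.1.succ).isPrime.mem_of_pow_mem _ h)
      · exact hr _ h
  have h := hind.lift_cardinalMk_le_trdeg
  simp only [Cardinal.mk_fintype, Cardinal.lift_natCast, Fintype.card_coe] at h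
  exact le_trans (Nat.cast_le.mpr hcard) (by
    rw [Cardinal.nat_le_lift_iff] at h
    exact h)

include hφ in
theorem finite_primeSpectrum {N : ℕ} (hN : Algebra.trdeg (⊥ : Subfield K) K ≤ (N : Cardinal)) :
    Finite (PrimeSpectrum V) := by
  classical
  by_contra hinf
  rw [not_finite_iff_infinite] at hinf
  obtain ⟨S, hS⟩ := Infinite.exists_subset_card_eq (PrimeSpectrum V) (N + 3)
  letI : LinearOrder (PrimeSpectrum V) :=
    { (inferInstance : PartialOrder (PrimeSpectrum V)) with
      le_total := fun a b => (PreValuationRing.iff_ideal_total.mp (inferInstance : PreValuationRing V)).total a.asIdeal b.asIdeal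
      toDecidableLE := Classical.decRel _ }
  have h := length_le_trdeg φ hφ (n := N + 1) (S.orderEmbOfFin hS) (S.orderEmbOfFin hS).strictMono
  have := Nat.cast_le.mp (h.trans hN)
  omega

theorem trdeg_closure_le {L : Type u} [Field L] (s : Finset L) :
    Algebra.trdeg (⊥ : Subfield (Subfield.closure (s : Set L))) (Subfield.closure (s : Set L)) ≤ (s.card : Cardinal) := by
  let K := Subfield.closure (s : Set L)
  let P := (⊥ : Subfield K)
  let T : Set K := K.subtype ⁻¹' (s : Set L)
  let A := Algebra.adjoin P T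
  haveI : Algebra.IsAlgebraic A K := by
    refine ⟨fun x => ?_⟩
    have hsub : Subring.closure (s : Set L) ≤ A.toSubring.map K.subtype := by
      refine Subring.closure_le.mpr fun a ha => ⟨⟨a, Subfield.subset_closure ha⟩, Algebra.subset_adjoin ha, rfl⟩
    obtain ⟨y, hy, z, hz, hyz⟩ := Subfield.mem_closure_iff.mp x.2
    obtain ⟨y', hy', rfl⟩ := hsub hy
    obtain ⟨z', hz', rfl⟩ := hsub hz
    have : x = y' / z' := Subtype.ext (by simpa using hyz.symm)
    rw [this, div_eq_mul_inv]
    exact (isAlgebraic_algebraMap (R := A) (A := K) ⟨y', hy'⟩).mul (isAlgebraic_algebraMap (R := A) (A := K) ⟨z', hz'⟩).inv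
  refine (Algebra.IsAlgebraic.trdeg_le_cardinalMk (R := P) (s := T)).trans ?_
  have h := Cardinal.mk_preimage_of_injective K.subtype (s : Set L) Subtype.val_injective
  exact h.trans (by simp)

theorem exists_filtration (R : Type u) [CommRing R] [IsDomain R] [ValuationRing R] :
    ∃ (ι : Type u) (_ : Preorder ι) (_ : IsDirected ι (fun a b ↦ a ≤ b)) (_ : Nonempty ι)
      (F : ι → Subring R), Monotone F ∧ (⨆ i, F i) = ⊤ ∧
        ∀ i, ValuationRing (F i) ∧ Finite (PrimeSpectrum (F i)) := by
  classical
  let L := FractionRing R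
  let F : Finset R → Subring R := fun s =>
    (Subfield.closure ((s.image (algebraMap R L) : Finset L) : Set L)).toSubring.comap (algebraMap R L)
  refine ⟨Finset R, inferInstance, inferInstance, inferInstance, F, fun s t h x hx =>
    Subfield.closure_mono (by simpa using Set.image_mono (Finset.coe_subset.mpr h)) hx, ?_, fun s => ?_⟩
  · refine eq_top_iff.mpr fun r _ => le_iSup F {r} ?_
    exact Subfield.subset_closure (by simp)
  let K := Subfield.closure ((s.image (algebraMap R L) : Finset L) : Set L)
  haveI : PreValuationRing (F s) := ⟨fun a b => by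
    by_cases ha : (a : R) = 0
    · exact ⟨0, Or.inr (Subtype.ext (by simp [ha]))⟩
    obtain ⟨c, hc | hc⟩ := ValuationRing.cond (a : R) (b : R)
    · refine ⟨⟨c, ?_⟩, Or.inl (Subtype.ext hc)⟩
      show algebraMap R L c ∈ K
      have h0 : algebraMap R L a ≠ 0 := fun h => ha (IsFractionRing.injective R L (h.trans (map_zero _).symm))
      rw [show algebraMap R L c = algebraMap R L b / algebraMap R L a by rw [eq_div_iff h0, ← map_mul, mul_comm, hc]]
      exact div_mem b.2 a.2
    · by_cases hb : (b : R) = 0
      · exact absurd (by rw [← hc, hb, zero_mul]) ha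
      refine ⟨⟨c, ?_⟩, Or.inr (Subtype.ext hc)⟩
      show algebraMap R L c ∈ K
      have h0 : algebraMap R L b ≠ 0 := fun h => hb (IsFractionRing.injective R L (h.trans (map_zero _).symm))
      rw [show algebraMap R L c = algebraMap R L a / algebraMap R L b by rw [eq_div_iff h0, ← map_mul, mul_comm, hc]]
      exact div_mem a.2 b.2⟩
  haveI : ValuationRing (F s) := { }
  refine ⟨inferInstance, ?_⟩
  exact finite_primeSpectrum ((algebraMap R L).restrict (F s) K fun x hx => hx)
    (fun a b h => Subtype.ext (IsFractionRing.injective R L (congrArg Subtype.val h)))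
    (trdeg_closure_le (s.image (algebraMap R L)))

end ValUnionLib
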